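import Groth.Prelude.Def_Pi1
import Groth.Agent.DimFormulaLib.Misc
import Groth.Agent.PurityLib.Normal
import Groth.Agent.Unibranch.NormalStalk
import Mathlib.AlgebraicGeometry.Morphisms.FlatMono

/-!
# Uniqueness of extensions of finite etale covers past a regular, nowhere dense closed set
-/

set_option autoImplicit false
set_option backward.isDefEq.respectTransparency false

universe u
open CategoryTheory CategoryTheory.Limits AlgebraicGeometry

noncomputable section

namespace Groth.Agent.FEtExtUnique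

/-- Maps to a finite etale scheme which agree on a dense open agree. -/
theorem eq_of_dense {V Z₁ Z₂ Y : Scheme.{u}} (z₂ : Z₂ ⟶ V) [IsFinite z₂] [Etale z₂]
    (t t' : Z₁ ⟶ Z₂) (h : t ≫ z₂ = t' ≫ z₂) (q : Y ⟶ Z₁) (hq : Dense (Set.range q))
    (hqt : q ≫ t = q ≫ t') : t = t' := by
  let Δ := pullback.diagonal z₂
  let m := pullback.lift t t' h
  haveI : IsOpenImmersion Δ := inferInstance
  haveI : IsClosedImmersion Δ := inferInstance
  have e : q ≫ m = (q ≫ t) ≫ Δ := by
    apply pullback.hom_ext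
    · simp [m, Δ]
    · simp [m, Δ, hqt]
  have hr : Set.range m ⊆ Set.range Δ := by
    rintro _ ⟨z, rfl⟩
    have hcl : IsClosed (m ⁻¹' Set.range Δ) := Δ.isClosedEmbedding.isClosed_range.preimage m.continuous
    refine closure_minimal ?_ hcl (hq z)
    rintro _ ⟨y, rfl⟩
    exact ⟨(q ≫ t) y, by rw [← Scheme.Hom.comp_apply, ← Scheme.Hom.comp_apply, e]⟩
  let k := IsOpenImmersion.lift Δ m hr
  have hk : k ≫ Δ = m := IsOpenImmersion.lift_fac _ _ _
  have h1 := congrArg (· ≫ pullback.fst z₂ z₂) hk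
  have h2 := congrArg (· ≫ pullback.snd z₂ z₂) hk
  simp only [Category.assoc, m, Δ, pullback.lift_fst, pullback.lift_snd, pullback.diagonal_fst,
    pullback.diagonal_snd, Category.comp_id] at h1 h2
  rw [← h1, h2]

/-- A point with integral local ring has a neighbourhood inside a single component. -/
theorem exists_nhd_generic {P : Scheme.{u}} [IsLocallyNoetherian P] (z : P)
    [IsDomain (P.presheaf.stalk z)] :
    ∃ (η : P) (N : P.Opens), (∀ w : P, w ⤳ η → w = η) ∧ z ∈ N ∧ ∀ y ∈ N, η ⤳ y := by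
  classical
  let b : Spec (P.presheaf.stalk z) := (⟨⊥, Ideal.isPrime_bot⟩ : PrimeSpectrum _)
  let η := P.fromSpecStalk z b
  have huniq : ∀ w : P, (∀ v : P, v ⤳ w → v = w) → w ⤳ z → w = η := by
    intro w hw hwz
    have hr : w ∈ Set.range (P.fromSpecStalk z) := by rw [Scheme.range_fromSpecStalk]; exact hwz
    obtain ⟨t, rfl⟩ := hr
    refine (hw η (Specializes.map ?_ (P.fromSpecStalk z).continuous)).symm
    exact (PrimeSpectrum.le_iff_specializes _ _).1 bot_le
  have hηmax : ∀ w : P, w ⤳ η → w = η := by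
    obtain ⟨η', h1, h2⟩ := DimFormulaLib.exists_maximal_point η
    have hηz : η ⤳ z := by
      have : η ∈ Set.range (P.fromSpecStalk z) := ⟨b, rfl⟩
      rwa [Scheme.range_fromSpecStalk] at this
    obtain rfl := huniq η' h2 (h1.trans hηz)
    exact h2
  obtain ⟨_, ⟨(A : P.Opens), hA, rfl⟩, hzA, -⟩ :=
    P.isBasis_affineOpens.exists_subset_of_mem_open (Set.mem_univ z) isOpen_univ
  haveI : IsNoetherianRing Γ(P, A) := IsLocallyNoetherian.component_noetherian ⟨A, hA⟩
  haveI : TopologicalSpace.NoetherianSpace A.toScheme := by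
    have := hA.isoSpec.hom.homeomorph
    exact TopologicalSpace.noetherianSpace_iff_of_homeomorph this |>.mpr inferInstance
  let M : Set P := {w | w ∈ A ∧ ∀ v : P, v ⤳ w → v = w}
  have hM : M.Finite := by
    have hfin := TopologicalSpace.NoetherianSpace.finite_irreducibleComponents (α := A.toScheme)
    let F : Set A.toScheme → Set P := fun c => A.ι '' c
    refine ((hfin.image fun c => {w : P | ∃ g : A.toScheme, IsGenericPoint g c ∧ A.ι g = w}).sUnion
      ?_).subset ?_
    · rintro _ ⟨c, -, rfl⟩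
      refine Set.Subsingleton.finite ?_
      rintro _ ⟨g, hg, rfl⟩ _ ⟨g', hg', rfl⟩
      rw [hg.eq hg']
    · rintro w ⟨hwA, hw⟩
      let w' : A.toScheme := ⟨w, hwA⟩
      refine ⟨_, ⟨irreducibleComponent w', irreducibleComponent_mem_irreducibleComponents _, rfl⟩, w', ?_, rfl⟩
      obtain ⟨g, hg⟩ := QuasiSober.sober (isIrreducible_irreducibleComponent (x := w'))
        (isClosed_irreducibleComponent (x := w'))
      have h1 : g ⤳ w' := hg.specializes mem_irreducibleComponent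
      have h2 : g = w' := A.ι.isOpenEmbedding.injective (hw _ (h1.map A.ι.continuous))
      exact h2 ▸ hg
  let T : Set P := M \ {η}
  have hcl : IsClosed (⋃ w ∈ T, closure ({w} : Set P)) :=
    hM.sdiff.isClosed_biUnion fun _ _ => isClosed_closure
  refine ⟨η, ⟨(A : Set P) \ ⋃ w ∈ T, closure ({w} : Set P), A.2.sdiff hcl⟩, hηmax, ⟨hzA, ?_⟩, ?_⟩
  · intro h
    obtain ⟨w, ⟨⟨-, hw⟩, hne⟩, hz⟩ := Set.mem_iUnion₂.mp h
    exact hne (huniq w hw (specializes_iff_mem_closure.mpr hz))
  · rintro y ⟨hyA, hy⟩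
    obtain ⟨w, hwy, hw⟩ := DimFormulaLib.exists_maximal_point y
    by_cases h : w = η
    · exact h ▸ hwy
    · exact absurd (Set.mem_biUnion (show w ∈ T from ⟨⟨hwy.mem_open A.2 hyA, hw⟩, h⟩)
        hwy.mem_closure) hy

/-- Every clopen part of the preimage of `O` in a finite etale cover has open closure. -/
def HasOpenClosures {V : Scheme.{u}} (O : V.Opens) : Prop :=
  ∀ {P : Scheme.{u}} (p : P ⟶ V) [IsFinite p] [Etale p] (S : Set P), IsOpen S →
    S ⊆ p ⁻¹' (O : Set V) → IsOpen (p ⁻¹' (O : Set V) \ S) → IsOpen (closure S)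

/-- Finite etale covers which agree over a dense open map uniquely, if graphs have open closures. -/
theorem exists_hom_of_sep {V Z₁ Z₂ Y : Scheme.{u}} (O : V.Opens)
    (hO : Dense (O : Set V)) (hsep : HasOpenClosures O)
    (z₁ : Z₁ ⟶ V) (z₂ : Z₂ ⟶ V) [IsFinite z₁] [Etale z₁] [IsFinite z₂] [Etale z₂]
    (q₁ : Y ⟶ Z₁) (q₂ : Y ⟶ Z₂) [IsOpenImmersion q₁]
    (hw : q₁ ≫ z₁ = q₂ ≫ z₂) (h₁ : z₁ ⁻¹' (O : Set V) = Set.range q₁) :
    ∃! t : Z₁ ⟶ Z₂, t ≫ z₂ = z₁ ∧ q₁ ≫ t = q₂ := by
  have hd₁ : Dense (Set.range q₁) := h₁ ▸ hO.preimage z₁.isOpenMap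
  let P := pullback z₁ z₂
  let p := pullback.fst z₁ z₂ ≫ z₁
  let γ : Y ⟶ P := pullback.lift q₁ q₂ hw
  have hγ1 : γ ≫ pullback.fst z₁ z₂ = q₁ := pullback.lift_fst _ _ _
  have hγ2 : γ ≫ pullback.snd z₁ z₂ = q₂ := pullback.lift_snd _ _ _
  haveI : Etale (γ ≫ pullback.fst z₁ z₂) := by rw [hγ1]; infer_instance
  haveI : Etale γ := Etale.of_comp γ (pullback.fst z₁ z₂)
  haveI : Mono γ := mono_of_mono_fac hγ1
  haveI : IsOpenImmersion γ := IsOpenImmersion.of_flat_of_mono γ
  let PO : Set P := p ⁻¹' (O : Set V)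
  have hγPO : Set.range γ ⊆ PO := by
    rintro _ ⟨y, rfl⟩
    change p (γ y) ∈ O
    rw [← Scheme.Hom.comp_apply, show γ ≫ p = q₁ ≫ z₁ by simp [p, γ], Scheme.Hom.comp_apply]
    have : q₁ y ∈ z₁ ⁻¹' (O : Set V) := h₁ ▸ ⟨y, rfl⟩
    exact this
  -- the graph is closed in the preimage of `O`
  have hclosed : closure (Set.range γ) ∩ PO ⊆ Set.range γ := by
    rintro w ⟨hw', hwO⟩
    have hwO : z₁ (pullback.fst z₁ z₂ w) ∈ (O : Set V) := hwO
    have hfst : pullback.fst z₁ z₂ w ∈ Set.range q₁ := h₁ ▸ hwO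
    obtain ⟨y, hy⟩ := hfst
    -- inside the preimage the graph is the locus where the two maps agree
    let W : P.Opens := pullback.fst z₁ z₂ ⁻¹ᵁ q₁.opensRange
    have hwW : w ∈ W := ⟨y, hy⟩
    let r : W.toScheme ⟶ Y := IsOpenImmersion.lift q₁ (W.ι ≫ pullback.fst z₁ z₂) (by
      rintro _ ⟨x, rfl⟩
      rw [Scheme.Hom.comp_apply]
      exact x.2)
    have hr : r ≫ q₁ = W.ι ≫ pullback.fst z₁ z₂ := IsOpenImmersion.lift_fac _ _ _
    let m : W.toScheme ⟶ pullback z₂ z₂ := pullback.lift (r ≫ q₂) (W.ι ≫ pullback.snd z₁ z₂) (by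
      rw [Category.assoc, ← hw, reassoc_of% hr, pullback.condition, Category.assoc])
    let Δ := pullback.diagonal z₂
    haveI : IsClosedImmersion Δ := inferInstance
    have hmem : (⟨w, hwW⟩ : W.toScheme) ∈ m ⁻¹' Set.range Δ := by
      have hcl : IsClosed (m ⁻¹' Set.range Δ) := Δ.isClosedEmbedding.isClosed_range.preimage m.continuous
      refine closure_minimal (s := W.ι ⁻¹' Set.range γ) ?_ hcl ?_
      · rintro x ⟨y', hy'⟩
        have hyW : Set.range γ ⊆ Set.range W.ι := by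
          rintro _ ⟨y'', rfl⟩
          rw [Scheme.Opens.range_ι]
          exact ⟨y'', by rw [← Scheme.Hom.comp_apply, hγ1]⟩
        let g : Y ⟶ W.toScheme := IsOpenImmersion.lift W.ι γ hyW
        have hg : g ≫ W.ι = γ := IsOpenImmersion.lift_fac _ _ _
        have hgr : g ≫ r = 𝟙 Y := by
          rw [← cancel_mono q₁, Category.assoc, hr, reassoc_of% hg, hγ1, Category.id_comp]
        have hgm : g ≫ m = q₂ ≫ Δ := by
          apply pullback.hom_ext
          · simp [m, Δ, reassoc_of% hgr]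
          · simp [m, Δ, reassoc_of% hg, hγ2]
        have hx : g y' = x := W.ι.isOpenEmbedding.injective (by
          rw [← Scheme.Hom.comp_apply, hg, hy'])
        exact ⟨q₂ y', by rw [← Scheme.Hom.comp_apply, ← hgm, Scheme.Hom.comp_apply, hx]⟩
      · rw [← W.ι.isOpenEmbedding.isOpenMap.preimage_closure_eq_closure_preimage W.ι.continuous]
        exact hw'
    obtain ⟨c, hc⟩ := hmem
    -- the point `w` equals `γ y`
    have hWr : W.ι ≫ (𝟙 P) = W.ι := Category.comp_id _
    let E := pullback m Δ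
    obtain ⟨e, he, -⟩ := Scheme.Pullback.exists_preimage_pullback (f := m) (g := Δ) ⟨w, hwW⟩ c hc.symm
    have heq : pullback.fst m Δ ≫ W.ι = pullback.fst m Δ ≫ r ≫ γ := by
      apply pullback.hom_ext
      · rw [Category.assoc, Category.assoc, Category.assoc, hγ1, hr]
      · have h3 := congrArg (· ≫ pullback.fst z₂ z₂) (pullback.condition (f := m) (g := Δ))
        have h4 := congrArg (· ≫ pullback.snd z₂ z₂) (pullback.condition (f := m) (g := Δ))
        simp only [Category.assoc, m, Δ, pullback.lift_fst, pullback.lift_snd,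
          pullback.diagonal_fst, pullback.diagonal_snd, Category.comp_id] at h3 h4
        rw [Category.assoc, Category.assoc, Category.assoc, hγ2, h4, h3]
    refine ⟨r ⟨w, hwW⟩, ?_⟩
    have h5 := congr($heq e)
    rw [Scheme.Hom.comp_apply, Scheme.Hom.comp_apply, Scheme.Hom.comp_apply, he] at h5
    exact h5.symm
  have hopen : IsOpen (closure (Set.range γ)) := by
    haveI : IsFinite p := inferInstance
    haveI : Etale p := inferInstance
    refine hsep p _ γ.isOpenEmbedding.isOpen_range hγPO ?_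
    have he : p ⁻¹' (O : Set V) \ Set.range γ = PO \ closure (Set.range γ) := by
      ext w
      exact ⟨fun h => ⟨h.1, fun hw' => h.2 (hclosed ⟨hw', h.1⟩)⟩,
        fun h => ⟨h.1, fun hw' => h.2 (subset_closure hw')⟩⟩
    rw [he]
    exact (O.2.preimage p.continuous).sdiff isClosed_closure
  let C : P.Opens := ⟨closure (Set.range γ), hopen⟩
  haveI : IsClosedImmersion C.ι := IsClosedImmersion.of_isPreimmersion _ (by
    rw [Scheme.Opens.range_ι]; exact isClosed_closure)
  let r := C.ι ≫ pullback.fst z₁ z₂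
  haveI : IsFinite r := inferInstance
  haveI : Etale r := inferInstance
  let g : Y ⟶ C.toScheme := IsOpenImmersion.lift C.ι γ (by
    rw [Scheme.Opens.range_ι]; exact subset_closure)
  have hg : g ≫ C.ι = γ := IsOpenImmersion.lift_fac _ _ _
  have hgr : g ≫ r = q₁ := by rw [reassoc_of% hg, hγ1]
  have hgd : r ⁻¹' Set.range q₁ = Set.range g := by
    ext x
    constructor
    · rintro ⟨y, hy⟩
      have hxO : C.ι x ∈ PO := by
        show z₁ (pullback.fst z₁ z₂ (C.ι x)) ∈ O
        rw [← Scheme.Hom.comp_apply C.ι, ← hy]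
        have : q₁ y ∈ z₁ ⁻¹' (O : Set V) := h₁ ▸ ⟨y, rfl⟩
        exact this
      obtain ⟨y', hy'⟩ := hclosed ⟨x.2, hxO⟩
      exact ⟨y', C.ι.isOpenEmbedding.injective (by rw [← Scheme.Hom.comp_apply, hg]; exact hy')⟩
    · rintro ⟨y, rfl⟩
      exact ⟨y, by rw [← Scheme.Hom.comp_apply, hgr]⟩
  have hgdense : Dense (Set.range g) := hgd ▸ hd₁.preimage r.isOpenMap
  haveI : Mono r := by
    let Δr := pullback.diagonal r
    haveI : IsOpenImmersion Δr := inferInstance
    haveI : IsClosedImmersion Δr := inferInstance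
    let π := pullback.fst r r ≫ r
    haveI : Etale π := inferInstance
    have hsub : π ⁻¹' Set.range q₁ ⊆ Set.range Δr := by
      intro w hw'
      have h1 : pullback.fst r r w ∈ Set.range g := by rw [← hgd]; exact hw'
      have h2 : pullback.snd r r w ∈ Set.range g := by
        rw [← hgd, Set.mem_preimage, ← Scheme.Hom.comp_apply, ← pullback.condition]
        exact hw'
      let μ := pullback.map (g ≫ r) (g ≫ r) r r g g (𝟙 _) (by simp) (by simp)
      obtain ⟨a, ha⟩ : w ∈ Set.range μ := by rw [Scheme.Pullback.range_map]; exact ⟨h1, h2⟩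
      haveI : Mono (g ≫ r) := by rw [hgr]; infer_instance
      have hμ : μ = (pullback.fst (g ≫ r) (g ≫ r) ≫ g) ≫ Δr := by
        have hfs : pullback.fst (g ≫ r) (g ≫ r) = pullback.snd (g ≫ r) (g ≫ r) :=
          (cancel_mono (g ≫ r)).mp pullback.condition
        apply pullback.hom_ext
        · simp [μ, Δr]
        · simp [μ, Δr, hfs]
      exact ⟨_, by rw [← Scheme.Hom.comp_apply, ← hμ, ha]⟩
    haveI : IsIso Δr := by
      haveI : Surjective Δr := ⟨fun w => closure_minimal hsub Δr.isClosedEmbedding.isClosed_range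
        (hd₁.preimage π.isOpenMap w)⟩
      exact (isIso_iff_isOpenImmersion_and_surjective Δr).mpr ⟨inferInstance, inferInstance⟩
    exact (pullback.isIso_diagonal_iff r).mp inferInstance
  haveI : IsOpenImmersion r := IsOpenImmersion.of_flat_of_mono r
  haveI : Surjective r := ⟨fun w => closure_minimal
    (by rintro _ ⟨y, rfl⟩; exact ⟨g y, by rw [← Scheme.Hom.comp_apply, hgr]⟩)
    r.isClosedMap.isClosed_range (hd₁ w)⟩
  haveI : IsIso r := (isIso_iff_isOpenImmersion_and_surjective r).mpr ⟨inferInstance, inferInstance⟩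
  refine ⟨inv r ≫ C.ι ≫ pullback.snd z₁ z₂, ⟨?_, ?_⟩, fun t' ht' => ?_⟩
  · rw [Category.assoc, Category.assoc, ← pullback.condition, ← Category.assoc C.ι,
      IsIso.inv_hom_id_assoc]
  · rw [← hgr, Category.assoc, IsIso.hom_inv_id_assoc, reassoc_of% hg, hγ2]
  · refine eq_of_dense z₂ t' _ ?_ q₁ hd₁ ?_
    · rw [ht'.1, Category.assoc, Category.assoc, ← pullback.condition, ← Category.assoc C.ι,
        IsIso.inv_hom_id_assoc]
    · rw [ht'.2, ← hgr, Category.assoc, IsIso.hom_inv_id_assoc, reassoc_of% hg, hγ2]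

/-- A dense open with regular complement in a locally Noetherian scheme has open closures. -/
theorem hasOpenClosures_of_regular {V : Scheme.{u}} [IsLocallyNoetherian V] (O : V.Opens)
    (hO : Dense (O : Set V)) (hreg : ∀ v : V, v ∉ O → IsRegularLocalRing (V.presheaf.stalk v)) :
    HasOpenClosures O := by
  intro P p _ _ S hSo hSsub hSc
  haveI : IsLocallyNoetherian P := LocallyOfFiniteType.isLocallyNoetherian p
  let PO : Set P := p ⁻¹' (O : Set V)
  have hclosed : closure S ∩ PO ⊆ S := by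
    rintro w ⟨hw', hwO⟩
    by_contra hwS
    obtain ⟨x, hx, hxS⟩ := mem_closure_iff.mp hw' _ hSc ⟨hwO, hwS⟩
    exact hx.2 hxS
  refine isOpen_iff_forall_mem_open.mpr fun w hw' => ?_
  by_cases hwO : w ∈ PO
  · exact ⟨S, subset_closure, hSo, hclosed ⟨hw', hwO⟩⟩
  · haveI := hreg (p w) hwO
    haveI := (Unibranch.normal_stalk_of_etale p w
      (PurityLib.isIntegrallyClosed_of_regular (V.presheaf.stalk (p w)))).1
    obtain ⟨η, N, hη, hwN, hN⟩ := exists_nhd_generic w
    obtain ⟨x, hxN, hxγ⟩ := mem_closure_iff.mp hw' N N.2 hwN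
    have hηO : η ∈ PO := DimFormulaLib.mem_of_dense (O.2.preimage p.continuous)
      (hO.preimage p.isOpenMap) hη
    have hηγ : η ∈ S := (hN x hxN).mem_open hSo hxγ
    exact ⟨N, fun y hy => closure_mono (Set.singleton_subset_iff.mpr hηγ) (hN y hy).mem_closure,
      N.2, hwN⟩

/-- Finite etale covers which agree over a dense open with regular complement are uniquely isomorphic. -/
theorem exists_hom {V Z₁ Z₂ Y : Scheme.{u}} [IsLocallyNoetherian V] (O : V.Opens)
    (hO : Dense (O : Set V)) (hreg : ∀ v : V, v ∉ O → IsRegularLocalRing (V.presheaf.stalk v))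
    (z₁ : Z₁ ⟶ V) (z₂ : Z₂ ⟶ V) [IsFinite z₁] [Etale z₁] [IsFinite z₂] [Etale z₂]
    (q₁ : Y ⟶ Z₁) (q₂ : Y ⟶ Z₂) [IsOpenImmersion q₁]
    (hw : q₁ ≫ z₁ = q₂ ≫ z₂) (h₁ : z₁ ⁻¹' (O : Set V) = Set.range q₁) :
    ∃! t : Z₁ ⟶ Z₂, t ≫ z₂ = z₁ ∧ q₁ ≫ t = q₂ :=
  exists_hom_of_sep O hO (hasOpenClosures_of_regular O hO hreg) z₁ z₂ q₁ q₂ hw h₁

/-- The isomorphism form. -/
theorem exists_iso {V Z₁ Z₂ Y : Scheme.{u}} [IsLocallyNoetherian V] (O : V.Opens)
    (hO : Dense (O : Set V)) (hreg : ∀ v : V, v ∉ O → IsRegularLocalRing (V.presheaf.stalk v))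
    (z₁ : Z₁ ⟶ V) (z₂ : Z₂ ⟶ V) [IsFinite z₁] [Etale z₁] [IsFinite z₂] [Etale z₂]
    (q₁ : Y ⟶ Z₁) (q₂ : Y ⟶ Z₂) [IsOpenImmersion q₁] [IsOpenImmersion q₂]
    (hw : q₁ ≫ z₁ = q₂ ≫ z₂) (h₁ : z₁ ⁻¹' (O : Set V) = Set.range q₁)
    (h₂ : z₂ ⁻¹' (O : Set V) = Set.range q₂) :
    ∃ t : Z₁ ⟶ Z₂, IsIso t ∧ t ≫ z₂ = z₁ ∧ q₁ ≫ t = q₂ := by
  obtain ⟨t, ⟨ht1, ht2⟩, -⟩ := exists_hom O hO hreg z₁ z₂ q₁ q₂ hw h₁
  obtain ⟨s, ⟨hs1, hs2⟩, -⟩ := exists_hom O hO hreg z₂ z₁ q₂ q₁ hw.symm h₂
  refine ⟨t, ⟨s, ?_, ?_⟩, ht1, ht2⟩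
  · refine eq_of_dense z₁ _ _ ?_ q₁ (h₁ ▸ hO.preimage z₁.isOpenMap) ?_
    · rw [Category.assoc, hs1, ht1, Category.id_comp]
    · rw [reassoc_of% ht2, hs2, Category.comp_id]
  · refine eq_of_dense z₂ _ _ ?_ q₂ (h₂ ▸ hO.preimage z₂.isOpenMap) ?_
    · rw [Category.assoc, ht1, hs1, Category.id_comp]
    · rw [reassoc_of% hs2, ht2, Category.comp_id]

/-- Restriction of finite etale covers to a dense open with open closures is fully faithful. -/
theorem fullyFaithful_of_sep {V : Scheme.{u}} (O : V.Opens)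
    (hO : Dense (O : Set V)) (hsep : HasOpenClosures O) :
    (FEt.restrict O.ι).Full ∧ (FEt.restrict O.ι).Faithful := by
  have hrange : ∀ A : FEt.Cat V,
      A.hom ⁻¹' (O : Set V) = Set.range (pullback.fst A.hom O.ι) := fun A => by
    rw [Scheme.Pullback.range_fst, Scheme.Opens.range_ι]
  constructor
  · refine ⟨fun {A B} φ => ?_⟩
    haveI : IsFinite A.hom := A.prop.1
    haveI : Etale A.hom := A.prop.2
    haveI : IsFinite B.hom := B.prop.1
    haveI : Etale B.hom := B.prop.2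
    let ψ : pullback A.hom O.ι ⟶ pullback B.hom O.ι := φ.left
    have hψ : ψ ≫ pullback.snd B.hom O.ι = pullback.snd A.hom O.ι := MorphismProperty.Over.w φ
    obtain ⟨t, ⟨ht1, ht2⟩, -⟩ := exists_hom_of_sep O hO hsep A.hom B.hom (pullback.fst A.hom O.ι)
      (ψ ≫ pullback.fst B.hom O.ι)
      (by rw [Category.assoc, pullback.condition, pullback.condition, reassoc_of% hψ]) (hrange A)
    refine ⟨MorphismProperty.Over.homMk t ht1, MorphismProperty.Over.Hom.ext ?_⟩
    change pullback.lift (pullback.fst A.hom O.ι ≫ t) (pullback.snd A.hom O.ι) _ = ψ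
    apply pullback.hom_ext
    · simp [ht2]
    · simp [hψ]
  · refine ⟨fun {A B} φ ψ h => MorphismProperty.Over.Hom.ext ?_⟩
    haveI : IsFinite B.hom := B.prop.1
    haveI : Etale B.hom := B.prop.2
    haveI : Etale A.hom := A.prop.2
    refine eq_of_dense B.hom φ.left ψ.left
      ((MorphismProperty.Over.w φ).trans (MorphismProperty.Over.w ψ).symm) (pullback.fst A.hom O.ι)
      (hrange A ▸ hO.preimage A.hom.isOpenMap) ?_
    have h' := congrArg (fun χ => χ.left ≫ pullback.fst B.hom O.ι) h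
    simpa [FEt.restrict, MorphismProperty.Over.pullback] using h'

/-- Restriction of finite etale covers to a dense open with regular complement is fully faithful. -/
theorem fullyFaithful_restrict {V : Scheme.{u}} [IsLocallyNoetherian V] (O : V.Opens)
    (hO : Dense (O : Set V)) (hreg : ∀ v : V, v ∉ O → IsRegularLocalRing (V.presheaf.stalk v)) :
    (FEt.restrict O.ι).Full ∧ (FEt.restrict O.ι).Faithful :=
  fullyFaithful_of_sep O hO (hasOpenClosures_of_regular O hO hreg)

end Groth.Agent.FEtExtUnique
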